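import Groth.Agent.VarDimLib.Basic
import Groth.Agent.FibDimLib.GenIneq
import Groth.Agent.FFDescLib.Closure

/-! Dominance of a composite with a generically finite morphism. -/

set_option autoImplicit false
universe u
open CategoryTheory CategoryTheory.Limits AlgebraicGeometry TopologicalSpace

namespace DomCompLib

theorem isDominant_comp_iff {k : Type u} [Field k] {X Y Z : Scheme.{u}}
    (pX : X ⟶ Spec (CommRingCat.of k)) [QuasiCompact pX]
    (pY : Y ⟶ Spec (CommRingCat.of k)) [LocallyOfFiniteType pY] [QuasiCompact pY]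
    (pZ : Z ⟶ Spec (CommRingCat.of k)) [LocallyOfFiniteType pZ]
    [IrreducibleSpace Y] [IrreducibleSpace Z] (hdim : topologicalKrullDim Y = topologicalKrullDim Z)
    (ρ : X ⟶ Y) (hρ : ρ ≫ pY = pX) (η : Y ⟶ Z) (hη : η ≫ pZ = pY) [IsDominant η] :
    IsDominant (ρ ≫ η) ↔ IsDominant ρ := by
  refine ⟨fun h => ?_, fun h => inferInstance⟩
  haveI : QuasiCompact (ρ ≫ η ≫ pZ) := by rw [hη, hρ]; infer_instance
  haveI : QuasiCompact ((ρ ≫ η) ≫ pZ) := by rwa [Category.assoc]
  haveI : IsLocallyNoetherian Z := LocallyOfFiniteType.isLocallyNoetherian pZ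
  haveI : QuasiSeparated pZ :=
    QuasiSeparated.of_comp pZ (Limits.terminal.from (Spec (CommRingCat.of k)))
  haveI : QuasiCompact (ρ ≫ η) := QuasiCompact.of_comp (ρ ≫ η) pZ
  haveI : LocallyOfFiniteType η := by
    haveI : LocallyOfFiniteType (η ≫ pZ) := hη ▸ inferInstance
    exact locallyOfFiniteType_of_comp η pZ
  obtain ⟨x, hx⟩ := FFDescLib.exists_specializes_of_mem_closure_range (ρ ≫ η) (y := genericPoint Z)
    ((ρ ≫ η).denseRange _)
  have hx' : η (ρ x) = genericPoint Z :=
    (hx.antisymm (genericPoint_specializes ((ρ ≫ η) x))).eq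
  have hy : ρ x = genericPoint Y := by
    by_contra hne
    have hlt := FibDimLib.fibreClosureDim_lt pY (genericPoint_specializes (ρ x)) (Ne.symm hne)
      (Subsingleton.elim (α := PrimeSpectrum k) _ _)
    have h1 := FibDimLib.topologicalKrullDim_closure_eq_add (𝟙 (Spec (CommRingCat.of k))) pY (genericPoint Y)
    have h2 := FibDimLib.topologicalKrullDim_closure_eq_add (𝟙 (Spec (CommRingCat.of k))) pY (ρ x)
    have h3 := FibDimLib.topologicalKrullDim_closure_eq_add pZ η (ρ x)
    rw [hx', ← VarDimLib.dim_eq_closure_generic] at h3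
    rw [← VarDimLib.dim_eq_closure_generic] at h1
    have e : pY (genericPoint Y) = pY (ρ x) := Subsingleton.elim (α := PrimeSpectrum k) _ _
    obtain ⟨a, ha⟩ := UOpenLib.exists_fibreClosureDim_eq_nat pY (genericPoint Y)
    obtain ⟨b, hb⟩ := UOpenLib.exists_fibreClosureDim_eq_nat pY (ρ x)
    obtain ⟨c, hc⟩ := UOpenLib.exists_fibreClosureDim_eq_nat η (ρ x)
    have hz : topologicalKrullDim (closure ({pY (ρ x)} : Set (Spec (CommRingCat.of k)))) = 0 := by
      haveI : Subsingleton (Spec (CommRingCat.of k)) := inferInstanceAs (Subsingleton (PrimeSpectrum k))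
      haveI : Nonempty (closure ({pY (ρ x)} : Set (Spec (CommRingCat.of k)))) := ⟨⟨_, subset_closure rfl⟩⟩
      haveI : DiscreteTopology (closure ({pY (ρ x)} : Set (Spec (CommRingCat.of k)))) := inferInstance
      obtain ⟨⟨a, ha'⟩⟩ := ‹Nonempty (closure ({pY (ρ x)} : Set (Spec (CommRingCat.of k))))›
      haveI : Nonempty (IrreducibleCloseds (closure ({pY (ρ x)} : Set (Spec (CommRingCat.of k))))) :=
        ⟨⟨{⟨a, ha'⟩}, isIrreducible_singleton, isClosed_discrete _⟩⟩
      exact le_antisymm (topologicalKrullDim_zero_of_discreteTopology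
        ↥(closure ({pY (ρ x)} : Set (Spec (CommRingCat.of k))))) Order.krullDim_nonneg
    rw [ha, hb] at hlt
    rw [ha, e, hz, zero_add] at h1
    rw [hb, hz, zero_add] at h2
    rw [h2, ← hdim, h1, hc] at h3
    have hab : b < a := by exact_mod_cast hlt
    have : b = a + c := by exact_mod_cast h3
    omega
  refine ⟨fun z => ?_⟩
  have hsub : closure ({genericPoint Y} : Set Y) ⊆ closure (Set.range ρ) :=
    closure_mono (Set.singleton_subset_iff.2 ⟨x, hy⟩)
  exact hsub (specializes_iff_mem_closure.1 (genericPoint_specializes z))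

end DomCompLib
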